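import Groth.Agent.Grpd.OverField
import Mathlib.AlgebraicGeometry.Sites.Fpqc
import Mathlib.AlgebraicGeometry.Sites.Etale
import Mathlib.AlgebraicGeometry.Morphisms.UniversallyOpen

/-!
# Invariance of largest opens in groupoid schemes
-/

set_option autoImplicit false
set_option backward.isDefEq.respectTransparency false

universe u
open CategoryTheory CategoryTheory.Limits AlgebraicGeometry

namespace Groth.Agent.GrpdInv

open Groth.Agent.GrpdLib

variable {S : Scheme.{u}} (G : Grpd.GroupoidScheme S)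

lemma gassoc {T : Scheme.{u}} (α β δ : T ⟶ G.R) (h₁ : α ≫ G.s = β ≫ G.t) (h₂ : β ≫ G.s = δ ≫ G.t) :
    gmul G (gmul G α β h₁) δ (by rw [gmul_s, h₂]) = gmul G α (gmul G β δ h₂) (by rw [gmul_t, h₁]) := by
  simp only [gmul_eq]
  exact G.assoc α β δ h₁ h₂

lemma div_mul {T : Scheme.{u}} (α β : T ⟶ G.R) (h : α ≫ G.s = β ≫ G.s) :
    gmul G (gmul G α (β ≫ G.i) (by rw [Category.assoc, G.i_t, h])) β
      (by rw [gmul_s, Category.assoc, G.i_s]) = α := by
  have h1 := gmul_gmul_inv G α (β ≫ G.i) (by rw [Category.assoc, G.i_t, h])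
  rw [gmul_congr G rfl (i_comp_i G β)] at h1
  exact h1

/-- the shear isomorphism -/
noncomputable def shear : pullback G.s G.t ≅ pullback G.s G.s where
  hom := pullback.lift (gmul G (pullback.fst _ _) (pullback.snd _ _) pullback.condition) (pullback.snd _ _)
    (gmul_s ..)
  inv := pullback.lift (gmul G (pullback.fst G.s G.s) (pullback.snd G.s G.s ≫ G.i)
      (by rw [Category.assoc, G.i_t]; exact pullback.condition)) (pullback.snd _ _)
    (by rw [gmul_s, Category.assoc, G.i_s])
  hom_inv_id := by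
    apply pullback.hom_ext
    · simp only [Category.assoc, pullback.lift_fst, comp_gmul, pullback.lift_snd_assoc, Category.id_comp]
      exact gmul_gmul_inv G _ _ pullback.condition
    · simp
  inv_hom_id := by
    apply pullback.hom_ext
    · simp only [Category.assoc, pullback.lift_fst, comp_gmul, pullback.lift_snd, Category.id_comp]
      exact div_mul G _ _ pullback.condition
    · simp

lemma shear_hom_snd : (shear G).hom ≫ pullback.snd G.s G.s = pullback.snd G.s G.t := pullback.lift_snd _ _ _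

lemma stab_cond {T : Scheme.{u}} (x : T ⟶ G.stabilizer) :
    (x ≫ pullback.fst G.j G.diag) ≫ G.t = x ≫ G.stabilizerToU ∧
      (x ≫ pullback.fst G.j G.diag) ≫ G.s = x ≫ G.stabilizerToU := by
  have h1 := congrArg (fun m => x ≫ m ≫ pullback.fst G.pU G.pU) (pullback.condition (f := G.j) (g := G.diag))
  have h2 := congrArg (fun m => x ≫ m ≫ pullback.snd G.pU G.pU) (pullback.condition (f := G.j) (g := G.diag))
  simp only [Grpd.GroupoidScheme.j, Grpd.GroupoidScheme.diag, Category.assoc, pullback.lift_fst,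
    pullback.lift_snd, Category.comp_id] at h1 h2
  exact ⟨by rw [Category.assoc]; exact h1, by rw [Category.assoc]; exact h2⟩

/-- a point of the stabilizer from an arrow -/
noncomputable def stabMk {T : Scheme.{u}} (δ : T ⟶ G.R) (p : T ⟶ G.U) (ht : δ ≫ G.t = p)
    (hs : δ ≫ G.s = p) : T ⟶ G.stabilizer :=
  pullback.lift δ p (pullback.hom_ext (by simp [Grpd.GroupoidScheme.j, Grpd.GroupoidScheme.diag, ht])
    (by simp [Grpd.GroupoidScheme.j, Grpd.GroupoidScheme.diag, hs]))

lemma stabMk_fst {T : Scheme.{u}} (δ : T ⟶ G.R) (p : T ⟶ G.U) (ht : δ ≫ G.t = p) (hs : δ ≫ G.s = p) :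
    stabMk G δ p ht hs ≫ pullback.fst G.j G.diag = δ := pullback.lift_fst _ _ _

lemma stabMk_toU {T : Scheme.{u}} (δ : T ⟶ G.R) (p : T ⟶ G.U) (ht : δ ≫ G.t = p) (hs : δ ≫ G.s = p) :
    stabMk G δ p ht hs ≫ G.stabilizerToU = p := pullback.lift_snd _ _ _

/-- conjugation: the stabilizer pulled back by `s` and by `t` agree -/
noncomputable def conj : pullback G.stabilizerToU G.s ≅ pullback G.stabilizerToU G.t :=
  let γs := pullback.fst G.stabilizerToU G.s ≫ pullback.fst G.j G.diag
  let rs := pullback.snd G.stabilizerToU G.s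
  let γt := pullback.fst G.stabilizerToU G.t ≫ pullback.fst G.j G.diag
  let rt := pullback.snd G.stabilizerToU G.t
  have a1 : γs ≫ G.t = rs ≫ G.s := ((stab_cond G _).1).trans pullback.condition
  have a2 : γs ≫ G.s = rs ≫ G.s := ((stab_cond G _).2).trans pullback.condition
  have b1 : γt ≫ G.t = rt ≫ G.t := ((stab_cond G _).1).trans pullback.condition
  have b2 : γt ≫ G.s = rt ≫ G.t := ((stab_cond G _).2).trans pullback.condition
  { hom := pullback.lift (stabMk G (gmul G (gmul G rs γs a1.symm) (rs ≫ G.i)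
        (by rw [gmul_s, a2, Category.assoc, G.i_t])) (rs ≫ G.t)
        (by rw [gmul_t, gmul_t]) (by rw [gmul_s, Category.assoc, G.i_s]))
      rs (stabMk_toU ..)
    inv := pullback.lift (stabMk G (gmul G (gmul G (rt ≫ G.i) γt (by rw [Category.assoc, G.i_s, b1])) rt
        (by rw [gmul_s, b2])) (rt ≫ G.s)
        (by rw [gmul_t, gmul_t, Category.assoc, G.i_t]) (by rw [gmul_s]))
      rt (stabMk_toU ..)
    hom_inv_id := by
      apply pullback.hom_ext
      · refine pullback.hom_ext ?_ ?_
        · simp only [Category.assoc, pullback.lift_fst_assoc, stabMk_fst, comp_gmul, Category.id_comp,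
            pullback.lift_fst, rt, γt, pullback.lift_snd, pullback.lift_snd_assoc]
          have a3 : γs ≫ G.s = (rs ≫ G.i) ≫ G.t := by rw [a2, Category.assoc, G.i_t]
          rw [gmul_congr G (gassoc G (rs ≫ G.i) (gmul G rs γs a1.symm) (rs ≫ G.i)
            (by rw [gmul_t, Category.assoc, G.i_s]) (by rw [gmul_s, a3])).symm rfl]
          rw [gmul_congr G (gmul_congr G (inv_gmul G rs γs a1.symm) rfl _) rfl]
          exact div_mul G γs rs a2
        · simp only [Category.assoc, Category.id_comp]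
          show _ ≫ _ ≫ _ ≫ G.stabilizerToU = _ ≫ G.stabilizerToU
          rw [pullback.lift_fst_assoc, stabMk_toU, pullback.lift_snd_assoc]
          exact pullback.condition.symm
      · simp [rs, rt]
    inv_hom_id := by
      apply pullback.hom_ext
      · refine pullback.hom_ext ?_ ?_
        · simp only [Category.assoc, pullback.lift_fst_assoc, stabMk_fst, comp_gmul, Category.id_comp,
            pullback.lift_fst, rs, γs, pullback.lift_snd, pullback.lift_snd_assoc]
          have b3 : (rt ≫ G.i) ≫ G.s = γt ≫ G.t := by rw [Category.assoc, G.i_s, b1]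
          rw [gmul_congr G (gassoc G rt (gmul G (rt ≫ G.i) γt b3) rt
            (by rw [gmul_t, Category.assoc, G.i_t]) (by rw [gmul_s, b2])).symm rfl]
          rw [gmul_congr G (gmul_congr G (gmul_inv G rt γt b1.symm) rfl _) rfl]
          exact gmul_gmul_inv G γt rt b2
        · simp only [Category.assoc, Category.id_comp]
          show _ ≫ _ ≫ _ ≫ G.stabilizerToU = _ ≫ G.stabilizerToU
          rw [pullback.lift_fst_assoc, stabMk_toU, pullback.lift_snd_assoc]
          exact pullback.condition.symm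
      · simp [rs, rt] }

lemma conj_hom_snd :
    (conj G).hom ≫ pullback.snd G.stabilizerToU G.t = pullback.snd G.stabilizerToU G.s :=
  pullback.lift_snd _ _ _

/-- The four precoverages are given by a property with these closure conditions. -/
structure GoodCov (K : Precoverage Scheme.{u}) (Q : MorphismProperty Scheme.{u}) : Prop where
  eq : K = Scheme.precoverage Q
  bc : Q.IsStableUnderBaseChange
  comp : Q.IsStableUnderComposition
  openImm : ∀ {X Y : Scheme.{u}} (f : X ⟶ Y), IsOpenImmersion f → Q f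
  isOpenMap : ∀ {X Y : Scheme.{u}} (f : X ⟶ Y), Q f → IsOpenMap f

lemma exists_goodCov {K : Precoverage Scheme.{u}}
    (hK : K = Scheme.zariskiPrecoverage ∨ K = Scheme.etalePrecoverage ∨
      K = Scheme.precoverage @Smooth ∨ K = Scheme.fppfPrecoverage) :
    ∃ Q, GoodCov K Q := by
  rcases hK with rfl | rfl | rfl | rfl
  · exact ⟨@IsOpenImmersion, rfl, inferInstance, inferInstance, fun f h => h,
      fun f h => f.isOpenEmbedding.isOpenMap⟩
  · exact ⟨@AlgebraicGeometry.Etale, rfl, inferInstance, inferInstance, fun f h => inferInstance,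
      fun f h => f.isOpenMap⟩
  · exact ⟨@Smooth, rfl, inferInstance, inferInstance, fun f h => inferInstance,
      fun f h => f.isOpenMap⟩
  · exact ⟨@Flat ⊓ @LocallyOfFinitePresentation, rfl, inferInstance, inferInstance,
      fun f h => ⟨inferInstance, inferInstance⟩,
      fun f h => by haveI := h.1; haveI := h.2; exact f.isOpenMap⟩

lemma singleton_mem_iff (Q : MorphismProperty Scheme.{u}) {X Y : Scheme.{u}} (f : X ⟶ Y) :
    Presieve.singleton f ∈ Scheme.precoverage Q Y ↔ Surjective f ∧ Q f := by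
  rw [← Presieve.ofArrows_pUnit.{0}, Scheme.ofArrows_mem_precoverage_iff]
  constructor
  · exact fun h => ⟨⟨fun y => let ⟨_, hy⟩ := h.1 y; hy⟩, h.2 PUnit.unit⟩
  · exact fun h => ⟨fun y => ⟨PUnit.unit, h.1.surj y⟩, fun _ => h.2⟩

variable {K : Precoverage Scheme.{u}} {Q P : MorphismProperty Scheme.{u}} [P.IsLocalAtTarget K]

/-- If the two pullbacks of `f` to `R` agree, the largest open over which `f` has `P` is invariant. -/
theorem preimage_eq_of_iso (hKQ : GoodCov K Q) (hs : Presieve.singleton G.s ∈ K G.U)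
    (ht : Presieve.singleton G.t ∈ K G.U) {X : Scheme.{u}} (f : X ⟶ G.U)
    (φ : pullback f G.s ≅ pullback f G.t) (hφ : φ.hom ≫ pullback.snd f G.t = pullback.snd f G.s)
    (W : G.U.Opens) (hW : P (f ∣_ W)) (hmax : ∀ W' : G.U.Opens, P (f ∣_ W') → W' ≤ W) :
    G.s ⁻¹ᵁ W = G.t ⁻¹ᵁ W := by
  haveI := hKQ.bc; haveI := hKQ.comp
  rw [hKQ.eq, singleton_mem_iff] at hs ht
  haveI := hs.1; haveI := ht.1
  have restrict : ∀ (a : G.R ⟶ G.U) (O : G.R.Opens) (V : G.U.Opens) (h : O ≤ a ⁻¹ᵁ V),
      Nonempty (Arrow.mk (pullback.snd (f ∣_ V) (a.resLE V O h)) ≅ Arrow.mk (pullback.snd f a ∣_ O)) := by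
    intro a O V h
    have A : IsPullback (pullback.fst (f ∣_ V) (a.resLE V O h) ≫ (f ⁻¹ᵁ V).ι)
        (pullback.snd (f ∣_ V) (a.resLE V O h)) f (a.resLE V O h ≫ V.ι) :=
      (IsPullback.of_hasPullback _ _).paste_horiz (isPullback_morphismRestrict f V).flip
    have B : IsPullback (((pullback.snd f a) ⁻¹ᵁ O).ι ≫ pullback.fst f a)
        (pullback.snd f a ∣_ O) f (O.ι ≫ a) :=
      (isPullback_morphismRestrict (pullback.snd f a) O).flip.paste_horiz (IsPullback.of_hasPullback f a)
    rw [a.resLE_comp_ι h] at A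
    exact ⟨Arrow.isoMk (A.isoIsPullback _ _ B) (Iso.refl _) (by simp)⟩
  have transfer : ∀ O : G.R.Opens, Nonempty (Arrow.mk (pullback.snd f G.s ∣_ O) ≅ Arrow.mk (pullback.snd f G.t ∣_ O)) := by
    intro O
    have e : φ.hom ≫ pullback.snd f G.t = pullback.snd f G.s := hφ
    rw [← e]
    exact ⟨(Arrow.isoMk (asIso (φ.hom ∣_ (pullback.snd f G.t ⁻¹ᵁ O))) (Iso.refl _)
      (by simp [morphismRestrict_comp]))⟩
  have step : ∀ (a b : G.R ⟶ G.U), Surjective a → Q a → Surjective b → Q b →
      (∀ O : G.R.Opens, Nonempty (Arrow.mk (pullback.snd f a ∣_ O) ≅ Arrow.mk (pullback.snd f b ∣_ O))) →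
      a ⁻¹ᵁ W ≤ b ⁻¹ᵁ W := by
    intro a b ha hQa hb hQb hiso
    let O : G.R.Opens := a ⁻¹ᵁ W
    let V : G.U.Opens := ⟨b '' (O : Set G.R), hKQ.isOpenMap b hQb _ O.2⟩
    have hOV : O ≤ b ⁻¹ᵁ V := fun x hx => ⟨x, hx, rfl⟩
    have hca : Presieve.singleton (a ∣_ W) ∈ K W.toScheme := by
      rw [hKQ.eq, singleton_mem_iff]
      exact ⟨MorphismProperty.of_isPullback (P := @Surjective) (isPullback_morphismRestrict a W).flip ha, MorphismProperty.of_isPullback (isPullback_morphismRestrict a W).flip hQa⟩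
    have hcb : Presieve.singleton (b.resLE V O hOV) ∈ K V.toScheme := by
      rw [hKQ.eq, singleton_mem_iff]
      refine ⟨⟨fun v => ?_⟩, ?_⟩
      · obtain ⟨x, hx, hxv⟩ := v.2
        refine ⟨⟨x, hx⟩, Subtype.ext ?_⟩
        exact (Scheme.Hom.coe_resLE_apply ..).trans hxv
      · exact Q.comp_mem _ _ (hKQ.openImm _ inferInstance)
          (MorphismProperty.of_isPullback (isPullback_morphismRestrict b V).flip hQb)
    have h1 : P (pullback.snd (f ∣_ W) (a ∣_ W)) :=
      MorphismProperty.IsLocalAtTarget.pullbackSnd hca (Presieve.singleton_self _) hW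
    have h2 : P (pullback.snd f a ∣_ O) := by
      have e : a ∣_ W = a.resLE W O le_rfl := (Scheme.Hom.resLE_eq_morphismRestrict a).symm
      rw [e] at h1
      exact (P.arrow_mk_iso_iff (restrict a O W le_rfl).some).mp h1
    have h3 : P (pullback.snd (f ∣_ V) (b.resLE V O hOV)) :=
      (P.arrow_mk_iso_iff ((restrict b O V hOV).some ≪≫ (hiso O).some.symm)).mpr h2
    have h4 : P (f ∣_ V) := by
      refine MorphismProperty.IsLocalAtTarget.of_forall_pullbackSnd hcb ?_
      rintro _ _ _ ⟨⟩
      exact h3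
    exact fun x hx => hmax V h4 ⟨x, hx, rfl⟩
  exact le_antisymm (step _ _ hs.1 hs.2 ht.1 ht.2 transfer)
    (step _ _ ht.1 ht.2 hs.1 hs.2 fun O => ⟨(transfer O).some.symm⟩)

end Groth.Agent.GrpdInv
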